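import Mathlib.LinearAlgebra.TensorProduct.Basis
import Mathlib.RingTheory.TensorProduct.Maps
import Mathlib.LinearAlgebra.Basis.VectorSpace

/-! Amitsur's form of Hilbert 90 for the units of `K' ⊗ -` over a field. -/

set_option autoImplicit false

universe u

open TensorProduct

namespace Groth.Agent.H90Weil

variable (k K' B : Type u) [Field k] [Field K'] [Algebra k K'] [CommRing B] [Algebra k B]

/-- `b ↦ b ⊗ 1`. -/
noncomputable abbrev in1 : B →ₐ[k] B ⊗[k] B := Algebra.TensorProduct.includeLeft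
/-- `b ↦ 1 ⊗ b`. -/
noncomputable abbrev in2 : B →ₐ[k] B ⊗[k] B := Algebra.TensorProduct.includeRight
/-- `b ⊗ c ↦ b ⊗ c ⊗ 1`. -/
noncomputable abbrev in12 : B ⊗[k] B →ₐ[k] B ⊗[k] (B ⊗[k] B) :=
  Algebra.TensorProduct.map (AlgHom.id k B) (in1 k B)
/-- `b ⊗ c ↦ b ⊗ 1 ⊗ c`. -/
noncomputable abbrev in13 : B ⊗[k] B →ₐ[k] B ⊗[k] (B ⊗[k] B) :=
  Algebra.TensorProduct.map (AlgHom.id k B) (in2 k B)
/-- `b ⊗ c ↦ 1 ⊗ b ⊗ c`. -/
noncomputable abbrev in23 : B ⊗[k] B →ₐ[k] B ⊗[k] (B ⊗[k] B) :=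
  Algebra.TensorProduct.includeRight

variable {k B}

/-- Extension of scalars to `K'` of an algebra map. -/
noncomputable abbrev bc {C D : Type u} [CommRing C] [CommRing D] [Algebra k C] [Algebra k D]
    (g : C →ₐ[k] D) : K' ⊗[k] C →ₐ[k] K' ⊗[k] D :=
  Algebra.TensorProduct.map (AlgHom.id k K') g

/-- Apply a functional to the first factor. -/
noncomputable def Phi (φ : B →ₗ[k] k) (M : Type u) [AddCommGroup M] [Module k M] :
    K' ⊗[k] (B ⊗[k] M) →ₗ[k] K' ⊗[k] M :=
  LinearMap.lTensor K' ((TensorProduct.lid k M).toLinearMap ∘ₗ φ.rTensor M)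

/-- Apply a functional to the second factor. -/
noncomputable def Rho (φ : B →ₗ[k] k) : K' ⊗[k] (B ⊗[k] B) →ₗ[k] K' ⊗[k] B :=
  LinearMap.lTensor K' ((TensorProduct.rid k B).toLinearMap ∘ₗ φ.lTensor B)

/-- Apply a functional. -/
noncomputable def psi (φ : B →ₗ[k] k) : K' ⊗[k] B →ₗ[k] K' :=
  (TensorProduct.rid k K').toLinearMap ∘ₗ φ.lTensor K'

@[simp] theorem Phi_tmul (φ : B →ₗ[k] k) (M : Type u) [AddCommGroup M] [Module k M]
    (a : K') (b : B) (m : M) : Phi K' φ M (a ⊗ₜ (b ⊗ₜ m)) = a ⊗ₜ (φ b • m) := rfl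

@[simp] theorem Rho_tmul (φ : B →ₗ[k] k) (a : K') (b c : B) :
    Rho K' φ (a ⊗ₜ (b ⊗ₜ c)) = a ⊗ₜ (φ c • b) := rfl

@[simp] theorem psi_tmul (φ : B →ₗ[k] k) (a : K') (b : B) : psi K' φ (a ⊗ₜ b) = φ b • a := rfl

theorem induct3 {M : Type u} [AddCommGroup M] [Module k M] {P : K' ⊗[k] (B ⊗[k] M) → Prop}
    (h0 : P 0) (hadd : ∀ x y, P x → P y → P (x + y)) (h : ∀ a b m, P (a ⊗ₜ (b ⊗ₜ m)))
    (x : K' ⊗[k] (B ⊗[k] M)) : P x := by
  induction x using TensorProduct.induction_on with
  | zero => exact h0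
  | add x y hx hy => exact hadd x y hx hy
  | tmul a y =>
    induction y using TensorProduct.induction_on with
    | zero => rw [TensorProduct.tmul_zero]; exact h0
    | add x y hx hy => rw [TensorProduct.tmul_add]; exact hadd _ _ hx hy
    | tmul b m => exact h a b m

theorem induct2 {P : K' ⊗[k] B → Prop} (h0 : P 0) (hadd : ∀ x y, P x → P y → P (x + y))
    (h : ∀ a b, P (a ⊗ₜ b)) (x : K' ⊗[k] B) : P x := by
  induction x using TensorProduct.induction_on with
  | zero => exact h0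
  | add x y hx hy => exact hadd x y hx hy
  | tmul a b => exact h a b

theorem Phi_in13 (φ : B →ₗ[k] k) (v : K' ⊗[k] (B ⊗[k] B)) :
    Phi K' φ (B ⊗[k] B) (bc K' (in13 k B) v) = bc K' (in2 k B) (Phi K' φ B v) := by
  induction v using induct3 with
  | h0 => simp only [map_zero]
  | hadd x y hx hy => simp only [map_add, hx, hy]
  | h a b m => simp

theorem Phi_in12_mul (φ : B →ₗ[k] k) (v w : K' ⊗[k] (B ⊗[k] B)) :
    Phi K' φ (B ⊗[k] B) (bc K' (in12 k B) v * bc K' (in23 k B) w) =
      bc K' (in1 k B) (Phi K' φ B v) * w := by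
  induction w using induct3 with
  | h0 => simp only [map_zero, mul_zero]
  | hadd x y hx hy => simp only [map_add, mul_add, hx, hy]
  | h a c d =>
    induction v using induct3 with
    | h0 => simp only [map_zero, zero_mul]
    | hadd x y hx hy => simp only [map_add, add_mul, hx, hy]
    | h a' b m => simp [smul_mul_assoc]

theorem Phi_mul (φ : B →ₗ[k] k) (x y : K' ⊗[k] B) :
    Phi K' φ B (bc K' (in1 k B) x * bc K' (in2 k B) y) = psi K' φ x • y := by
  induction y using induct2 with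
  | h0 => simp only [map_zero, mul_zero, smul_zero]
  | hadd a b ha hb => simp only [map_add, mul_add, smul_add, ha, hb]
  | h a c =>
    induction x using induct2 with
    | h0 => simp only [map_zero, zero_mul, zero_smul]
    | hadd a' b ha hb => simp only [map_add, add_mul, add_smul, ha, hb]
    | h a' b => simp [TensorProduct.smul_tmul', ← TensorProduct.smul_tmul, smul_mul_assoc]

theorem psi_Rho (φ χ : B →ₗ[k] k) (v : K' ⊗[k] (B ⊗[k] B)) :
    psi K' χ (Rho K' φ v) = psi K' φ (Phi K' χ B v) := by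
  induction v using induct3 with
  | h0 => simp only [map_zero]
  | hadd x y hx hy => simp only [map_add, hx, hy]
  | h a b c => simp [smul_smul, mul_comm]

theorem psi_smul (φ : B →ₗ[k] k) (l : K') (x : K' ⊗[k] B) :
    psi K' φ (l • x) = l * psi K' φ x := by
  induction x using induct2 with
  | h0 => simp only [map_zero, smul_zero, mul_zero]
  | hadd a b ha hb => simp only [map_add, smul_add, mul_add, ha, hb]
  | h a b => simp [TensorProduct.smul_tmul']

theorem Phi_coord_injective {ι : Type u} (b : Module.Basis ι k B) (v : K' ⊗[k] (B ⊗[k] B))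
    (h : ∀ i, Phi K' (b.coord i) B v = 0) : v = 0 := by
  classical
  have key : ∀ i, TensorProduct.equivFinsuppOfBasisLeft b (TensorProduct.leftComm k K' B B v) i =
      Phi K' (b.coord i) B v := fun i => by
    clear h
    induction v using induct3 with
    | h0 => simp only [map_zero, Finsupp.coe_zero, Pi.zero_apply]
    | hadd x y hx hy => simp only [map_add, Finsupp.add_apply, hx, hy]
    | h a c d => simp [TensorProduct.tmul_smul]
  apply (TensorProduct.leftComm k K' B B).injective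
  rw [map_zero]
  apply (TensorProduct.equivFinsuppOfBasisLeft b).injective
  ext i
  rw [map_zero, key, h]
  rfl

theorem psi_coord_injective {ι : Type u} (b : Module.Basis ι k B) (v : K' ⊗[k] B)
    (h : ∀ i, psi K' (b.coord i) v = 0) : v = 0 := by
  classical
  have key : ∀ i, TensorProduct.equivFinsuppOfBasisRight b v i = psi K' (b.coord i) v := fun i => by
    rw [TensorProduct.equivFinsuppOfBasisRight_apply]
    rfl
  apply (TensorProduct.equivFinsuppOfBasisRight b).injective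
  ext i
  rw [map_zero, key, h]
  rfl

/-- Hilbert 90 in Amitsur's form: a unit one-cocycle is a coboundary. -/
theorem exists_unit_of_cocycle (u : (K' ⊗[k] (B ⊗[k] B))ˣ)
    (hu : bc K' (in12 k B) u * bc K' (in23 k B) u = bc K' (in13 k B) u) :
    ∃ c : (K' ⊗[k] B)ˣ, (u : K' ⊗[k] (B ⊗[k] B)) * bc K' (in1 k B) c = bc K' (in2 k B) c := by
  by_cases htriv : (1 : K' ⊗[k] (B ⊗[k] B)) = 0
  · haveI := subsingleton_of_zero_eq_one htriv.symm
    exact ⟨1, Subsingleton.elim _ _⟩
  obtain ⟨b⟩ : Nonempty (Module.Basis (Module.Basis.ofVectorSpaceIndex k B) k B) :=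
    ⟨Module.Basis.ofVectorSpace k B⟩
  have hM : ∀ φ : B →ₗ[k] k, bc K' (in2 k B) (Phi K' φ B u) =
      bc K' (in1 k B) (Phi K' φ B u) * u := fun φ => by
    rw [← Phi_in13, ← hu, Phi_in12_mul]
  obtain ⟨i₀, hi₀⟩ : ∃ i, Phi K' (b.coord i) B (u : K' ⊗[k] (B ⊗[k] B)) ≠ 0 := by
    by_contra hne
    push Not at hne
    have h0 := Phi_coord_injective K' b _ hne
    exact htriv (by rw [← u.mul_inv, h0, zero_mul])
  set c := Phi K' (b.coord i₀) B (u : K' ⊗[k] (B ⊗[k] B)) with hc
  obtain ⟨j₀, hj₀⟩ : ∃ j, psi K' (b.coord j) c ≠ 0 := by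
    by_contra hne
    push Not at hne
    exact hi₀ (psi_coord_injective K' b _ hne)
  set l := psi K' (b.coord j₀) c with hl
  set a := l⁻¹ • Rho K' (b.coord j₀) (u : K' ⊗[k] (B ⊗[k] B)) with ha
  have hmult : ∀ i, Phi K' (b.coord i) B (u : K' ⊗[k] (B ⊗[k] B)) = psi K' (b.coord i) a • c := fun i => by
    set c' := Phi K' (b.coord i) B (u : K' ⊗[k] (B ⊗[k] B)) with hc'
    have hsym : bc K' (in1 k B) c' * bc K' (in2 k B) c = bc K' (in1 k B) c * bc K' (in2 k B) c' := by
      rw [hM, hM]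
      ring
    have h1 := congrArg (Phi K' (b.coord j₀) B) hsym
    rw [Phi_mul, Phi_mul, ← hl] at h1
    rw [ha, psi_smul, psi_Rho, ← hc', mul_smul, h1, smul_smul, inv_mul_cancel₀ hj₀, one_smul]
  have hu' : (u : K' ⊗[k] (B ⊗[k] B)) = bc K' (in1 k B) a * bc K' (in2 k B) c := by
    refine sub_eq_zero.1 (Phi_coord_injective K' b _ fun i => ?_)
    rw [map_sub, Phi_mul, hmult, sub_self]
  have hcu2 : IsUnit (bc K' (in2 k B) c) := isUnit_of_mul_isUnit_right (hu' ▸ u.isUnit)
  have hcu : IsUnit c := by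
    have h := hcu2.map (bc K' (Algebra.TensorProduct.lmul' k (S := B)))
    have e : bc K' (Algebra.TensorProduct.lmul' k (S := B)) (bc K' (in2 k B) c) = c := by
      induction c using induct2 with
      | h0 => simp only [map_zero]
      | hadd x y hx hy => simp only [map_add, hx, hy]
      | h x y => simp
    rwa [e] at h
  refine ⟨hcu.unit, ?_⟩
  show (u : K' ⊗[k] (B ⊗[k] B)) * bc K' (in1 k B) c = bc K' (in2 k B) c
  rw [hM, mul_comm]

end Groth.Agent.H90Weil
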