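import Groth.Agent.H90Weil.Algebra
import Groth.Agent.Adeq2Lib.AffineVanish
import Groth.Prelude.Def_GmPts
import Groth.Prelude.Def_CGrpSh2

/-! `H¹(k, R_{k'/k} 𝔾_m) = 0` on the big fppf site. -/

set_option autoImplicit false

universe u

open CategoryTheory CategoryTheory.Limits AlgebraicGeometry Opposite Abelian TensorProduct
open scoped CategoryTheory.MonObj

noncomputable section

namespace Groth.Agent.H90Weil

open Groth.Agent.Adeq2Lib Groth.Agent.Adeq2Lib.AffVan

variable (k k' : Type u) [Field k] [Field k'] [Algebra k k']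

/-- `Spec` of an algebra as an object of the big site. -/
abbrev spk (C : Type u) [CommRing C] [Algebra k C] : Over (Spec (CommRingCat.of k)) :=
  Over.mk (Spec.map (CommRingCat.ofHom (algebraMap k C)))

/-- `Spec` of a map of algebras. -/
def spMor {C D : Type u} [CommRing C] [CommRing D] [Algebra k C] [Algebra k D] (g : C →ₐ[k] D) :
    spk k D ⟶ spk k C :=
  Over.homMk (Spec.map (CommRingCat.ofHom g.toRingHom)) (by
    show Spec.map _ ≫ Spec.map _ = Spec.map _
    rw [← Spec.map_comp, ← CommRingCat.ofHom_comp]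
    exact congrArg (fun φ => Spec.map (CommRingCat.ofHom φ)) g.comp_algebraMap)

/-- The morphism `Spec k' ⟶ Spec k`. -/
abbrev sk : Spec (CommRingCat.of k') ⟶ Spec (CommRingCat.of k) :=
  Spec.map (CommRingCat.ofHom (algebraMap k k'))

/-- The base change of a test object. -/
abbrev Pb (T : Over (Spec (CommRingCat.of k))) : Over (Spec (CommRingCat.of k')) :=
  (Over.pullback (sk k k')).obj T

/-- `(Spec C) ×_k Spec k' ≅ Spec (k' ⊗ C)`. -/
def eP (C : Type u) [CommRing C] [Algebra k C] :
    (Pb k k' (spk k C)).left ≅ Spec (CommRingCat.of (k' ⊗[k] C)) :=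
  pullbackSymmetry _ _ ≪≫ pullbackSpecIso k k' C

theorem eP_left (C : Type u) [CommRing C] [Algebra k C] :
    (eP k k' C).hom ≫ Spec.map (CommRingCat.ofHom Algebra.TensorProduct.includeLeftRingHom) =
      pullback.snd (spk k C).hom (sk k k') := by
  rw [eP, Iso.trans_hom, Category.assoc]
  refine (congrArg ((pullbackSymmetry _ _).hom ≫ ·) (pullbackSpecIso_hom_fst k k' C)).trans ?_
  exact pullbackSymmetry_hom_comp_fst _ _

theorem eP_right (C : Type u) [CommRing C] [Algebra k C] :
    (eP k k' C).hom ≫ Spec.map (CommRingCat.ofHom (R := C) (S := k' ⊗[k] C)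
      (Algebra.TensorProduct.includeRight : C →ₐ[k] k' ⊗[k] C).toRingHom) =
      pullback.fst (spk k C).hom (sk k k') := by
  rw [eP, Iso.trans_hom, Category.assoc]
  refine (congrArg ((pullbackSymmetry _ _).hom ≫ ·) (pullbackSpecIso_hom_snd k k' C)).trans ?_
  exact pullbackSymmetry_hom_comp_snd _ _

theorem eP_inv_fst (C : Type u) [CommRing C] [Algebra k C] :
    (eP k k' C).inv ≫ pullback.fst (spk k C).hom (sk k k') =
      Spec.map (CommRingCat.ofHom (R := C) (S := k' ⊗[k] C)
        (Algebra.TensorProduct.includeRight : C →ₐ[k] k' ⊗[k] C).toRingHom) := by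
  rw [← eP_right, Iso.inv_hom_id_assoc]

theorem eP_inv_snd (C : Type u) [CommRing C] [Algebra k C] :
    (eP k k' C).inv ≫ pullback.snd (spk k C).hom (sk k k') =
      Spec.map (CommRingCat.ofHom Algebra.TensorProduct.includeLeftRingHom) := by
  rw [← eP_left, Iso.inv_hom_id_assoc]

theorem eP_nat {C D : Type u} [CommRing C] [CommRing D] [Algebra k C] [Algebra k D]
    (g : C →ₐ[k] D) :
    ((Over.pullback (sk k k')).map (spMor k g)).left ≫ (eP k k' C).hom =
      (eP k k' D).hom ≫ Spec.map (CommRingCat.ofHom (bc k' g).toRingHom) := by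
  rw [← cancel_mono (eP k k' C).inv, Category.assoc, Iso.hom_inv_id, Category.comp_id, Category.assoc]
  refine pullback.hom_ext ?_ ?_
  · rw [Category.assoc, Category.assoc, eP_inv_fst, ← Spec.map_comp, ← CommRingCat.ofHom_comp]
    refine Eq.trans (b := pullback.fst (spk k D).hom (sk k k') ≫ (spMor k g).left) ?_ ?_
    · dsimp only [Over.pullback]
      exact pullback.lift_fst _ _ _
    · rw [← eP_right, Category.assoc]
      refine congrArg ((eP k k' D).hom ≫ ·) ?_
      show Spec.map _ ≫ Spec.map _ = _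
      rw [← Spec.map_comp, ← CommRingCat.ofHom_comp]
      exact congrArg (fun φ => Spec.map (CommRingCat.ofHom φ)) (RingHom.ext fun c => by simp)
  · rw [Category.assoc, Category.assoc, eP_inv_snd, ← Spec.map_comp, ← CommRingCat.ofHom_comp]
    refine Eq.trans (b := pullback.snd (spk k D).hom (sk k k')) ?_ ?_
    · dsimp only [Over.pullback]
      exact pullback.lift_snd _ _ _
    · rw [← eP_left]
      refine congrArg ((eP k k' D).hom ≫ ·) ?_
      exact congrArg (fun φ => Spec.map (CommRingCat.ofHom φ)) (RingHom.ext fun c => by simp)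

/-- Functions on `(Spec C) ×_k Spec k'`. -/
def fnE (C : Type u) [CommRing C] [Algebra k C] :
    k' ⊗[k] C ≃+* Γ((Pb k k' (spk k C)).left, ⊤) :=
  ((Scheme.ΓSpecIso (CommRingCat.of (k' ⊗[k] C))).symm ≪≫
    Scheme.Γ.mapIso (eP k k' C).op).commRingCatIsoToRingEquiv

theorem fnE_apply (C : Type u) [CommRing C] [Algebra k C] (x : k' ⊗[k] C) :
    fnE k k' C x = (eP k k' C).hom.appTop ((Scheme.ΓSpecIso (CommRingCat.of (k' ⊗[k] C))).inv x) := rfl

theorem fnE_nat {C D : Type u} [CommRing C] [CommRing D] [Algebra k C] [Algebra k D]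
    (g : C →ₐ[k] D) (x : k' ⊗[k] C) :
    ((Over.pullback (sk k k')).map (spMor k g)).left.appTop (fnE k k' C x) =
      fnE k k' D (bc k' g x) := by
  rw [fnE_apply, fnE_apply, ← GmPts.appTop_comp_apply, eP_nat, GmPts.appTop_comp_apply]
  refine congrArg (eP k k' D).hom.appTop ?_
  exact (ConcreteCategory.congr_hom
    (Scheme.ΓSpecIso_inv_naturality (CommRingCat.ofHom (bc k' g).toRingHom)) x).symm

/-- `R_{k'/k} 𝔾_m`. -/
abbrev RGm : BigSite.Ab Scheme.fppfPrecoverage (Spec (CommRingCat.of k)) :=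
  (BigSite.pushBig Scheme.fppfPrecoverage (sk k k') AddCommGrpCat.{u + 1}).obj
    (CGrpSh2.Gm Scheme.fppfPrecoverage (Spec (CommRingCat.of k')))

/-- The unit of a section. -/
def toUnit (C : Type u) [CommRing C] [Algebra k C] (z : (RGm k k').obj.obj (op (spk k C))) :
    (k' ⊗[k] C)ˣ :=
  Units.map (fnE k k' C).symm.toMonoidHom (GmPts.unitOfPt (S := Spec (CommRingCat.of k'))
    (T := Pb k k' (spk k C)) (Additive.toMul (ULift.down z)))

/-- The section of a unit. -/
def ofUnit (C : Type u) [CommRing C] [Algebra k C] (v : (k' ⊗[k] C)ˣ) :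
    (RGm k k').obj.obj (op (spk k C)) :=
  ULift.up (Additive.ofMul (GmPts.ptOfUnit (S := Spec (CommRingCat.of k'))
    (T := Pb k k' (spk k C)) (Units.map (fnE k k' C).toMonoidHom v)))

theorem toUnit_ofUnit (C : Type u) [CommRing C] [Algebra k C] (v : (k' ⊗[k] C)ˣ) :
    toUnit k k' C (ofUnit k k' C v) = v := by
  refine Units.ext ?_
  show (fnE k k' C).symm ((GmPts.unitOfPt (GmPts.ptOfUnit _)).1) = v.1
  rw [GmPts.unitOfPt_ptOfUnit]
  exact (fnE k k' C).symm_apply_apply v.1

theorem toUnit_injective (C : Type u) [CommRing C] [Algebra k C] :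
    Function.Injective (toUnit k k' C) := fun z w h => by
  have h1 : (fnE k k' C).symm (Red.gmFn (Additive.toMul (ULift.down z))) =
      (fnE k k' C).symm (Red.gmFn (Additive.toMul (ULift.down w))) := congrArg Units.val h
  exact ULift.ext _ _ (congrArg Additive.ofMul (GmPts.gmFn_injective ((fnE k k' C).symm.injective h1)))

theorem toUnit_add (C : Type u) [CommRing C] [Algebra k C]
    (z w : (RGm k k').obj.obj (op (spk k C))) :
    toUnit k k' C (z + w) = toUnit k k' C z * toUnit k k' C w :=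
  (congrArg (Units.map (fnE k k' C).symm.toMonoidHom)
    (GmPts.unitOfPt_mul (Additive.toMul (ULift.down z)) (Additive.toMul (ULift.down w)))).trans
    (map_mul _ _ _)

theorem toUnit_map {C D : Type u} [CommRing C] [CommRing D] [Algebra k C] [Algebra k D]
    (g : C →ₐ[k] D) (z : (RGm k k').obj.obj (op (spk k C))) :
    (toUnit k k' D (rA (RGm k k') (spMor k g) z) : k' ⊗[k] D) = bc k' g (toUnit k k' C z) := by
  show (fnE k k' D).symm (Red.gmFn ((Over.pullback (sk k k')).map (spMor k g) ≫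
    Additive.toMul (ULift.down z))) = bc k' g ((fnE k k' C).symm (Red.gmFn _))
  rw [GmPts.gmFn_comp, RingEquiv.symm_apply_eq, ← fnE_nat, RingEquiv.apply_symm_apply]

theorem subsingleton_H_one :
    Subsingleton (BigSite.H Scheme.fppfPrecoverage (Spec (CommRingCat.of k)) (RGm k k') 1) := by
  let T₀ := Over.mk (𝟙 (Spec (CommRingCat.of k)))
  have hT : IsTerminal T₀ := Over.mkIdTerminal
  let P := Classical.arbitrary (InjectivePresentation (RGm k k'))
  have hE := P.shortExact_shortComplex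
  let E := P.shortComplex
  haveI := hE.epi_g
  refine subsingleton_of_forall_eq 0 fun x => ?_
  obtain ⟨y, rfl⟩ := Ext.covariant_sequence_exact₁ _ hE x
    ((Ext.eq_zero_of_injective (I := P.J) _)) (n₀ := 0) rfl
  suffices hs : ∃ t₀, (E.g.hom.app (op T₀)).hom t₀ = Sheaf.H.equiv₀ E.X₃ hT y by
    obtain ⟨t₀, ht₀⟩ := hs
    have hy : y = Sheaf.H.map E.g 0 ((Sheaf.H.equiv₀ E.X₂ hT).symm t₀) := by
      refine (Sheaf.H.equiv₀ E.X₃ hT).injective ?_
      rw [← Sheaf.H.equiv₀_naturality, AddEquiv.apply_symm_apply]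
      exact ht₀.symm
    rw [hy, Sheaf.H.map_apply, Ext.comp_assoc_of_second_deg_zero, hE.comp_extClass, Ext.comp_zero]
  set s := Sheaf.H.equiv₀ E.X₃ hT y
  obtain ⟨B, _, _, _, _, t', ht'⟩ :=
    exists_lift_single (R := CommRingCat.of k) (𝟙 (Spec (CommRingCat.of k))) E.g s
  let c₁ : spk k B ⟶ cov (𝟙 (Spec (CommRingCat.of k))) B := Over.homMk (𝟙 _) (by
    simp [CechAffine.sp_hom]; rfl)
  let cv : spk k B ⟶ T₀ := c₁ ≫ covMap (𝟙 (Spec (CommRingCat.of k))) B
  obtain ⟨t, ht⟩ : ∃ t, (E.g.hom.app (op (spk k B))).hom t = rA E.X₃ cv s := by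
    refine ⟨rA E.X₂ c₁ t', (ConcreteCategory.congr_hom (E.g.hom.naturality c₁.op) t').trans ?_⟩
    refine (congrArg (rA E.X₃ c₁) ht').trans ?_
    exact rA_comp _ _ _ _
  let π₁ := spMor k (in1 k B)
  let π₂ := spMor k (in2 k B)
  let d' := rA E.X₂ π₂ t - rA E.X₂ π₁ t
  have hd' : (E.g.hom.app (op (spk k (B ⊗[k] B)))).hom d' = 0 := by
    rw [map_sub]
    refine sub_eq_zero.2 ?_
    refine (ConcreteCategory.congr_hom (E.g.hom.naturality π₂.op) t).trans ?_
    refine (congrArg (rA E.X₃ π₂) ht).trans (Eq.trans ?_ ((congrArg (rA E.X₃ π₁) ht).symm.trans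
      (ConcreteCategory.congr_hom (E.g.hom.naturality π₁.op) t).symm))
    rw [rA_comp, rA_comp]
    exact congrArg (fun m => rA E.X₃ m s) (hT.hom_ext _ _)
  obtain ⟨d, hd⟩ := ((secA_exact E hE _).2 d').1 hd'
  have hcomp : ∀ {C : Type u} [CommRing C] [Algebra k C] (g : B ⊗[k] B →ₐ[k] C),
      (E.f.hom.app (op (spk k C))).hom (rA E.X₁ (spMor k g) d) =
        rA E.X₂ (spMor k (g.comp (in2 k B))) t - rA E.X₂ (spMor k (g.comp (in1 k B))) t := by
    intro C _ _ g
    refine (ConcreteCategory.congr_hom (E.f.hom.naturality (spMor k g).op) d).trans ?_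
    refine (congrArg (rA E.X₂ (spMor k g)) hd).trans ?_
    show rA E.X₂ (spMor k g) (rA E.X₂ π₂ t - rA E.X₂ π₁ t) = _
    rw [map_sub, rA_comp, rA_comp]
    have hm : ∀ g' : B →ₐ[k] B ⊗[k] B, spMor k g ≫ spMor k g' = spMor k (g.comp g') := fun g' =>
      Over.OverMorphism.ext (Spec.map_comp _ _).symm
    rw [hm, hm]
  have hcoc : rA E.X₁ (spMor k (in12 k B)) d + rA E.X₁ (spMor k (in23 k B)) d =
      rA E.X₁ (spMor k (in13 k B)) d := by
    refine (secA_exact E hE _).1 ?_
    rw [map_add, hcomp, hcomp, hcomp]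
    have h1 : (in12 k B).comp (in1 k B) = (in13 k B).comp (in1 k B) := by ext b; simp
    have h2 : (in13 k B).comp (in2 k B) = (in23 k B).comp (in2 k B) := by ext b; simp
    have h3 : (in12 k B).comp (in2 k B) = (in23 k B).comp (in1 k B) := by ext b; simp
    rw [h1, h2, h3]
    abel
  obtain ⟨c, hc⟩ := exists_unit_of_cocycle k' (toUnit k k' (B ⊗[k] B) d) (by
    rw [← toUnit_map, ← toUnit_map, ← toUnit_map, ← hcoc]
    exact (congrArg Units.val (toUnit_add k k' _ _ _)).symm)
  let g : E.X₁.obj.obj (op (spk k B)) := ofUnit k k' B c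
  have hg : d + rA E.X₁ π₁ g = rA E.X₁ π₂ g := by
    refine toUnit_injective k k' _ (Units.ext ?_)
    refine (congrArg Units.val (toUnit_add k k' _ d _)).trans ?_
    rw [Units.val_mul]
    refine (congrArg₂ (· * ·) rfl (toUnit_map k k' (in1 k B) g)).trans ?_
    refine Eq.trans ?_ (toUnit_map k k' (in2 k B) g).symm
    show _ * bc k' (in1 k B) (toUnit k k' B (ofUnit k k' B c) : k' ⊗[k] B) =
      bc k' (in2 k B) (toUnit k k' B (ofUnit k k' B c) : k' ⊗[k] B)
    rw [toUnit_ofUnit]
    exact hc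
  let w := t - (E.f.hom.app (op (spk k B))).hom g
  have hw : rA E.X₂ π₁ w = rA E.X₂ π₂ w := by
    have h1 := congrArg (E.f.hom.app (op (spk k (B ⊗[k] B)))).hom hg
    rw [map_add, hd] at h1
    have e1 : ∀ π : spk k (B ⊗[k] B) ⟶ spk k B,
        (E.f.hom.app _).hom (rA E.X₁ π g) = rA E.X₂ π ((E.f.hom.app _).hom g) := fun π =>
      ConcreteCategory.congr_hom (E.f.hom.naturality π.op) g
    rw [e1, e1] at h1
    rw [map_sub, map_sub, ← h1]
    show _ = _ - (rA E.X₂ π₂ t - rA E.X₂ π₁ t + _)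
    abel
  have hff := (flat_and_surjective_SpecMap_iff (CommRingCat.ofHom (algebraMap k B))).2
    (RingHom.faithfullyFlat_algebraMap_iff.2 (by assumption))
  haveI : Flat cv.left := by
    show Flat (𝟙 _ ≫ (CechAffine.X₀ (R := CommRingCat.of k) B).hom)
    rw [Category.id_comp, CechAffine.sp_hom]; exact hff.1
  haveI : Surjective cv.left := by
    show Surjective (𝟙 _ ≫ (CechAffine.X₀ (R := CommRingCat.of k) B).hom)
    rw [Category.id_comp, CechAffine.sp_hom]; exact hff.2
  haveI : LocallyOfFinitePresentation cv.left := by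
    show LocallyOfFinitePresentation (𝟙 _ ≫ (CechAffine.X₀ (R := CommRingCat.of k) B).hom)
    rw [Category.id_comp, CechAffine.sp_hom]; assumption
  have hmem : Sieve.generate (Presieve.ofArrows (fun _ : PUnit.{1} => (spk k B).left) fun _ => cv.left) ∈
      Scheme.fppfPrecoverage.toGrothendieck T₀.left := by
    rw [Presieve.ofArrows_pUnit]
    exact Precoverage.generate_mem_toGrothendieck (Scheme.Hom.singleton_mem_fppfPrecoverage _)
  obtain ⟨z, hz⟩ := glueA E.X₂ (fun _ : PUnit.{1} => spk k B) (fun _ => cv) hmem (fun _ => w)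
    fun _ _ W p q _ => by
      have hpq : p.left ≫ (spk k B).hom = q.left ≫ (spk k B).hom := (Over.w p).trans (Over.w q).symm
      let m : W ⟶ spk k (B ⊗[k] B) :=
        Over.homMk (pullback.lift p.left q.left hpq ≫ (pullbackSpecIso k B B).hom) (by
          show (_ ≫ _) ≫ Spec.map _ = _
          rw [Category.assoc, pullbackSpecIso_hom_base]
          exact (pullback.lift_fst_assoc _ _ _ _).trans (Over.w p))
      have hp : m ≫ π₁ = p := Over.OverMorphism.ext (by
        show (_ ≫ _) ≫ Spec.map _ = p.left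
        rw [Category.assoc]
        exact (congrArg (pullback.lift p.left q.left hpq ≫ ·) (pullbackSpecIso_hom_fst k B B)).trans
          (pullback.lift_fst _ _ _))
      have hq : m ≫ π₂ = q := Over.OverMorphism.ext (by
        show (_ ≫ _) ≫ Spec.map _ = q.left
        rw [Category.assoc]
        exact (congrArg (pullback.lift p.left q.left hpq ≫ ·) (pullbackSpecIso_hom_snd k B B)).trans
          (pullback.lift_snd _ _ _))
      rw [← hp, ← hq, ← rA_comp, ← rA_comp, hw]
  refine ⟨z, eq_of_cover E.X₃ (fun _ : PUnit.{1} => spk k B) (fun _ => cv) hmem _ _ fun i => ?_⟩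
  refine (ConcreteCategory.congr_hom (E.g.hom.naturality cv.op) z).symm.trans ?_
  refine (congrArg (E.g.hom.app (op (spk k B))).hom (hz i)).trans ?_
  show (E.g.hom.app (op (spk k B))).hom (t - _) = _
  rw [map_sub, ((secA_exact E hE _).2 _).2 ⟨g, rfl⟩, sub_zero]
  exact ht

end Groth.Agent.H90Weil
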